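import Mathlib.LinearAlgebra.Matrix.Charpoly.Basic
import Mathlib.LinearAlgebra.Matrix.Kronecker
import Mathlib.LinearAlgebra.Matrix.ToLin
import Mathlib.LinearAlgebra.Eigenspace.Semisimple
import Mathlib.LinearAlgebra.Eigenspace.Zero
import Mathlib.LinearAlgebra.Semisimple
import Mathlib.LinearAlgebra.StdBasis
import Mathlib.LinearAlgebra.Charpoly.ToMatrix
import Mathlib.FieldTheory.IsAlgClosed.AlgebraicClosure
import Mathlib.FieldTheory.Perfect
import Mathlib.Algebra.Algebra.Rat

/-!
The dimension of the commutant of a semisimple endomorphism, from its characteristic polynomial.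
-/

noncomputable section

set_option autoImplicit false
set_option linter.unusedSectionVars false
set_option linter.style.haveILetI false
set_option maxHeartbeats 1000000

open Matrix Polynomial
open scoped Kronecker

namespace Groth.Agent.AVFrob

variable {n : Type*} [Fintype n] [DecidableEq n]

/-- The commutator with a matrix, as a matrix. -/
def adM {R : Type*} [CommRing R] (M : Matrix n n R) : Matrix (n × n) (n × n) R :=
  (1 : Matrix n n R) ⊗ₖ Mᵀ - M ⊗ₖ (1 : Matrix n n R)

theorem adM_map {R S : Type*} [CommRing R] [CommRing S] (φ : R →+* S) (M : Matrix n n R) :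
    (adM M).map φ = adM (M.map φ) := by
  ext ⟨i, j⟩ ⟨a, c⟩
  simp [adM, Matrix.kroneckerMap_apply, Matrix.one_apply, apply_ite φ]

theorem charpoly_conj' {m K : Type*} [Fintype m] [DecidableEq m] [Field K] (X Y D : Matrix m m K)
    (h1 : Y * X = 1) (h2 : X * Y = 1) : (X * D * Y).charpoly = D.charpoly :=
  by rw [show Y = X⁻¹ from (Matrix.inv_eq_right_inv h2).symm]; exact Matrix.charpoly_units_conj ⟨X, Y, h2, h1⟩ D

/-- The number of ordered pairs of equal members. -/
def eqPairs {K : Type*} [DecidableEq K] (s : Multiset K) : ℕ := (s.map fun a => s.count a).sum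

theorem eqPairs_map {K L : Type*} [DecidableEq K] [DecidableEq L] (f : K → L) (hf : Function.Injective f)
    (s : Multiset K) : eqPairs (s.map f) = eqPairs s := by
  simp [eqPairs, Multiset.map_map, Multiset.count_map_eq_count' f s hf]

theorem rootMultiplicity_charpoly_adM {K : Type*} [Field K] [DecidableEq K] [IsAlgClosed K] (M : Matrix n n K)
    (p : K[X]) (hp : Squarefree p) (hpM : aeval M p = 0) :
    (adM M).charpoly.rootMultiplicity 0 = eqPairs M.charpoly.roots := by
  classical
  let f : Module.End K (n → K) := Matrix.toLinAlgEquiv' M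
  have hf : f.IsSemisimple := Module.End.isSemisimple_of_squarefree_aeval_eq_zero hp (by
    show aeval (Matrix.toLinAlgEquiv' M) p = 0
    rw [show (Matrix.toLinAlgEquiv' M : Module.End K (n → K)) = (Matrix.toLinAlgEquiv' (R := K) (n := n)).toAlgHom M from rfl,
      aeval_algHom_apply, hpM, map_zero])
  let S : Set (n → K) := ⋃ μ : K, (f.eigenspace μ : Set (n → K))
  obtain ⟨s, hsS, hsspan, hsli⟩ := exists_linearIndependent K S
  have htop : Submodule.span K S = ⊤ := by
    rw [Submodule.span_iUnion]
    simp only [Submodule.span_eq]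
    exact hf.iSup_eigenspace_eq_top
  let bs : Module.Basis s K (n → K) := Module.Basis.mk hsli (by rw [Subtype.range_coe_subtype, Set.setOf_mem_eq, hsspan, htop])
  let e := bs.indexEquiv (Pi.basisFun K n)
  let b := bs.reindex e
  have hev : ∀ i, ∃ μ : K, f (b i) = μ • b i := fun i => by
    have : b i ∈ S := hsS (by simp [b, bs])
    obtain ⟨μ, hμ⟩ := Set.mem_iUnion.1 this
    exact ⟨μ, Module.End.mem_eigenspace_iff.1 hμ⟩
  choose d hd using hev
  let U : Matrix n n K := (Pi.basisFun K n).toMatrix b
  let V : Matrix n n K := b.toMatrix (Pi.basisFun K n)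
  have hUV : U * V = 1 := Module.Basis.toMatrix_mul_toMatrix_flip _ _
  have hVU : V * U = 1 := Module.Basis.toMatrix_mul_toMatrix_flip _ _
  have hM : M = U * Matrix.diagonal d * V := by
    have h1 : LinearMap.toMatrix b b f = Matrix.diagonal d := by
      ext i j
      rw [LinearMap.toMatrix_apply, hd, map_smul, Module.Basis.repr_self, Matrix.diagonal_apply]
      by_cases hij : i = j
      · subst hij; simp
      · simp [hij, Finsupp.single_eq_of_ne hij]
    rw [← h1, basis_toMatrix_mul_linearMap_toMatrix_mul_basis_toMatrix]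
    rw [LinearMap.toMatrix_eq_toMatrix']
    have hfe : f = Matrix.toLin' M := LinearMap.ext fun x => by simp [f]
    rw [hfe]
    exact (LinearMap.toMatrix'_toLin' M).symm
  have hroots : M.charpoly.roots = Finset.univ.val.map d := by
    rw [hM, charpoly_conj' U V _ hVU hUV, Matrix.charpoly_diagonal, Polynomial.roots_prod _ _ (Finset.prod_ne_zero_iff.2 fun i _ => X_sub_C_ne_zero (d i))]
    simp
  have hconj : adM M = (U ⊗ₖ Vᵀ) * adM (Matrix.diagonal d) * (V ⊗ₖ Uᵀ) := by
    simp only [adM, Matrix.mul_sub, Matrix.sub_mul, ← Matrix.mul_kronecker_mul, Matrix.mul_one]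
    rw [hUV, ← Matrix.transpose_mul, ← Matrix.transpose_mul, ← Matrix.transpose_mul, hUV, Matrix.transpose_one, ← hM,
      ← Matrix.mul_assoc, ← hM]
  have h1 : (U ⊗ₖ Vᵀ) * (V ⊗ₖ Uᵀ) = 1 := by
    rw [← Matrix.mul_kronecker_mul, hUV, ← Matrix.transpose_mul, hUV, Matrix.transpose_one, Matrix.one_kronecker_one]
  have h2 : (V ⊗ₖ Uᵀ) * (U ⊗ₖ Vᵀ) = 1 := by
    rw [← Matrix.mul_kronecker_mul, hVU, ← Matrix.transpose_mul, hVU, Matrix.transpose_one, Matrix.one_kronecker_one]
  have hdiag : adM (Matrix.diagonal d) = Matrix.diagonal fun x : n × n => d x.2 - d x.1 := by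
    ext ⟨i, j⟩ ⟨a, c⟩
    by_cases hia : i = a <;> by_cases hjc : j = c <;>
      simp [adM, Matrix.kroneckerMap_apply, Matrix.one_apply, Matrix.diagonal_apply, hia, hjc, Ne.symm]
  rw [hconj, charpoly_conj' _ _ _ h2 h1, hdiag, Matrix.charpoly_diagonal, ← Polynomial.count_roots,
    Polynomial.roots_prod _ _ (Finset.prod_ne_zero_iff.2 fun x _ => X_sub_C_ne_zero _), hroots]
  simp only [roots_X_sub_C, Multiset.bind_singleton]
  simp only [eqPairs, Multiset.map_map, Multiset.count_map, Finset.card_val, Function.comp_def, ← Finset.sum_eq_multiset_sum]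
  rw [← Finset.filter_val, Finset.card_val, Finset.card_filter, Fintype.sum_prod_type]
  refine Finset.sum_congr rfl fun i _ => ?_
  rw [← Finset.filter_val, Finset.card_val, Finset.card_filter]
  refine Finset.sum_congr rfl fun j _ => if_congr ?_ rfl rfl
  rw [eq_comm, sub_eq_zero, eq_comm]

theorem squarefree_map {F : Type*} [Field F] [CharZero F] {h : ℤ[X]}
    (h1 : Squarefree (h.map (Int.castRingHom ℚ))) : Squarefree (h.map (Int.castRingHom F)) := by
  have h2 : (h.map (Int.castRingHom ℚ)).Separable := PerfectField.separable_iff_squarefree.2 h1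
  rw [show Int.castRingHom F = (algebraMap ℚ F).comp (Int.castRingHom ℚ) from RingHom.ext_int _ _, ← Polynomial.map_map]
  exact h2.map.squarefree

/-- The commutant of a semisimple endomorphism with integral characteristic polynomial. -/
theorem finrank_comm {F V : Type*} [Field F] [CharZero F] [AddCommGroup V] [Module F V] [FiniteDimensional F V]
    (f : Module.End F V) {P h : ℤ[X]} (hP : f.charpoly = P.map (Int.castRingHom F))
    (hsf : Squarefree (h.map (Int.castRingHom ℚ))) (hf : aeval f (h.map (Int.castRingHom F)) = 0) :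
    Module.finrank F (LinearMap.ker (LinearMap.lcomp F V f - LinearMap.llcomp F V V V f :
        Module.End F V →ₗ[F] Module.End F V)) =
      @eqPairs (AlgebraicClosure ℚ) (Classical.decEq _) (P.map (Int.castRingHom (AlgebraicClosure ℚ))).roots := by
  classical
  let A : Module.End F (Module.End F V) := LinearMap.lcomp F V f
  let B : Module.End F (Module.End F V) := LinearMap.llcomp F V V V f
  have hAh : ∀ (p : F[X]) (X : Module.End F V), aeval A p X = X * aeval f p ∧ aeval B p X = aeval f p * X := by
    intro p X
    induction p using Polynomial.induction_on generalizing X with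
    | C c => constructor <;> simp [Algebra.algebraMap_eq_smul_one]
    | add p q hp hq => constructor <;> simp [(hp X).1, (hp X).2, (hq X).1, (hq X).2, mul_add, add_mul]
    | monomial m c hm =>
      constructor
      · rw [pow_succ, ← mul_assoc, map_mul, Module.End.mul_apply, aeval_X, (hm (A X)).1,
          map_mul (aeval f) (Polynomial.C c * Polynomial.X ^ m) Polynomial.X, aeval_X]
        show (X * f) * _ = _
        rw [mul_assoc]
        congr 1
        exact (Commute.eq (show Commute f (aeval f (Polynomial.C c * Polynomial.X ^ m)) from by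
          simpa using ((Algebra.commute_algebraMap_right c f).mul_right (Commute.self_pow f m))))
      · rw [pow_succ, ← mul_assoc, map_mul, Module.End.mul_apply, aeval_X, (hm (B X)).2,
          map_mul (aeval f) (Polynomial.C c * Polynomial.X ^ m) Polynomial.X, aeval_X, mul_assoc]
        rfl
  have hA : A.IsSemisimple := Module.End.isSemisimple_of_squarefree_aeval_eq_zero (squarefree_map (F := F) hsf)
    (LinearMap.ext fun X => by rw [(hAh _ X).1, hf, mul_zero]; rfl)
  have hB : B.IsSemisimple := Module.End.isSemisimple_of_squarefree_aeval_eq_zero (squarefree_map (F := F) hsf)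
    (LinearMap.ext fun X => by rw [(hAh _ X).2, hf, zero_mul]; rfl)
  have hAB : Commute A B := LinearMap.ext fun X => by
    show f ∘ₗ X ∘ₗ f = (f ∘ₗ X) ∘ₗ f
    rfl
  have hs := Module.End.IsSemisimple.sub_of_commute hAB hA hB
  have hker : LinearMap.ker (A - B) = Module.End.maxGenEigenspace (A - B) 0 := by
    rw [(Module.End.isFinitelySemisimple_iff_isSemisimple.mpr hs).maxGenEigenspace_eq_eigenspace,
      Module.End.eigenspace_zero]
  show Module.finrank F (LinearMap.ker (A - B)) = _
  rw [hker, LinearMap.finrank_maxGenEigenspace_eq]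
  -- matrices
  let b := Module.finBasis F V
  let M := LinearMap.toMatrix b b f
  let e : Module.End F V ≃ₗ[F] Matrix (Fin (Module.finrank F V)) (Fin (Module.finrank F V)) F := LinearMap.toMatrix b b
  let st := Matrix.stdBasis F (Fin (Module.finrank F V)) (Fin (Module.finrank F V))
  have hmat : LinearMap.toMatrix st st (e.conj (A - B)) = adM M := by
    ext ⟨i, j⟩ ⟨a, c⟩
    have h1 : e.conj (A - B) (st (a, c)) = st (a, c) * M - M * st (a, c) := by
      rw [LinearEquiv.conj_apply_apply, LinearMap.sub_apply, map_sub]
      show LinearMap.toMatrix b b ((e.symm (st (a, c))) ∘ₗ f) - LinearMap.toMatrix b b (f ∘ₗ e.symm (st (a, c))) = _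
      rw [LinearMap.toMatrix_comp b b b, LinearMap.toMatrix_comp b b b]
      simp only [e, LinearEquiv.apply_symm_apply]
      rfl
    rw [LinearMap.toMatrix_apply, h1]
    have hrepr : ∀ (Z : Matrix (Fin (Module.finrank F V)) (Fin (Module.finrank F V)) F) i j, st.repr Z (i, j) = Z i j := by
      intro Z i j
      simp [st, Matrix.stdBasis]
    rw [hrepr, Matrix.stdBasis_eq_single]
    by_cases hia : i = a <;> by_cases hjc : j = c <;>
      simp [adM, Matrix.kroneckerMap_apply, Matrix.one_apply, hia, hjc, Matrix.sub_apply, Matrix.mul_apply, Matrix.single_apply, Ne.symm]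
  rw [← e.charpoly_conj, ← LinearMap.charpoly_toMatrix _ st, hmat]
  let K := AlgebraicClosure F
  haveI : Algebra.IsAlgebraic ℚ (AlgebraicClosure ℚ) := by
    convert AlgebraicClosure.isAlgebraic ℚ
    all_goals rfl
  let j : AlgebraicClosure ℚ →ₐ[ℚ] K := IsAlgClosed.lift
  rw [Polynomial.eq_rootMultiplicity_map (algebraMap F K).injective, map_zero, ← Matrix.charpoly_map, adM_map]
  have hM0 : aeval (M.map (algebraMap F K)) ((h.map (Int.castRingHom K))) = 0 := by
    have h0 : aeval M (h.map (Int.castRingHom F)) = 0 := by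
      rw [show M = (LinearMap.toMatrixAlgEquiv b).toAlgHom f from rfl, aeval_algHom_apply, hf, map_zero]
    have h5 := congrArg (algebraMap F K).mapMatrix h0
    rw [aeval_def, eval₂_map, hom_eval₂, map_zero] at h5
    rw [aeval_def, eval₂_map, ← h5]
    exact congrArg (fun g => eval₂ g _ h) (RingHom.ext_int _ _)
  rw [rootMultiplicity_charpoly_adM _ _ (squarefree_map hsf) hM0, Matrix.charpoly_map, LinearMap.charpoly_toMatrix, hP,
    Polynomial.map_map, show (algebraMap F K).comp (Int.castRingHom F) =
      (j.toRingHom).comp (Int.castRingHom (AlgebraicClosure ℚ)) from RingHom.ext_int _ _, ← Polynomial.map_map,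
    (IsAlgClosed.splits _).roots_map]
  convert eqPairs_map j.toRingHom j.toRingHom.injective _

end Groth.Agent.AVFrob
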