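import Groth.Agent.AbTors.Hom

/-!
Finitely many curves detect a finitely generated group of homomorphisms, so a degree form on them is
positive definite there.
-/

noncomputable section

set_option linter.style.haveILetI false
set_option linter.unusedSectionVars false
set_option backward.isDefEq.respectTransparency false
set_option backward.isDefEq.respectTransparency.types false
set_option maxHeartbeats 1000000
set_option autoImplicit false

universe u

open CategoryTheory CategoryTheory.Limits MonoidalCategory CartesianMonoidalCategory MonObj AlgebraicGeometry TopologicalSpace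

namespace Groth.Agent.AVFrob

open Groth.Agent.AbTors Groth.Agent.H23

variable {k : Type u} [Field k] [IsAlgClosed k] {A B : Over (Spec (CommRingCat.of k))}
  [GrpObj A] [IsProper A.hom] [GeometricallyIntegral A.hom]
  [GrpObj B] [IsCommMonObj B] [IsProper B.hom] [GeometricallyIntegral B.hom]
  {M : B.left.Modules} (hM : CohB1.IsAmple M)
  (hsym : Nonempty ((Scheme.Modules.pullback ((𝟙 B)⁻¹ : B ⟶ B).left).obj M ≅ M))

include hM hsym in
theorem exists_curves (Γ : Submodule ℤ (HomAb A B)) [Module.Finite ℤ Γ] :
    ∃ (r : ℕ) (cs : Fin r → Crv A),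
      ∀ x ∈ Γ, (∀ i, (cs i).j ≫ (x.toMul.1 : A ⟶ B) = 1) → x = 0 := by
  classical
  let R := Module.finrank ℤ Γ
  by_contra hno
  push Not at hno
  have key : ∀ r : ℕ, ∃ (cs : Fin r → Crv A) (xs : Fin r → Γ),
      ∀ a : Fin r → ℤ, (∀ i, bC hM (cs i) (xs i : HomAb A B) (∑ l, a l • (xs l : HomAb A B)) = 0) → a = 0 := by
    intro r
    induction r with
    | zero => exact ⟨Fin.elim0, Fin.elim0, fun a _ => funext fun i => i.elim0⟩
    | succ r ih =>
      obtain ⟨cs, xs, hind⟩ := ih
      obtain ⟨x, hx, hkill, hx0⟩ := hno r cs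
      haveI : IsMonHom (x.toMul.1 : A ⟶ B) := x.toMul.2
      obtain ⟨c, hc⟩ := exists_crv_not_const A (f := (x.toMul.1 : A ⟶ B))
        fun h => hx0 (Additive.toMul.injective (Subtype.ext h))
      refine ⟨Fin.snoc cs c, Fin.snoc xs ⟨x, hx⟩, fun a ha => ?_⟩
      have hsum : ∑ l, a l • ((Fin.snoc xs ⟨x, hx⟩ : Fin (r + 1) → Γ) l : HomAb A B) =
          ∑ l : Fin r, a l.castSucc • (xs l : HomAb A B) + a (Fin.last r) • x := by
        rw [Fin.sum_univ_castSucc]
        simp [Fin.snoc_castSucc, Fin.snoc_last]
      rw [hsum] at ha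
      have hold : ∀ l : Fin r, a l.castSucc = 0 := congrFun (hind _ fun i => by
        have h := ha i.castSucc
        rw [Fin.snoc_castSucc, Fin.snoc_castSucc, map_add, map_zsmul, bC_const_right hM (cs i) _ (hkill i),
          smul_zero, add_zero] at h
        exact h)
      have h := ha (Fin.last r)
      simp only [Fin.snoc_last, hold, zero_zsmul, Finset.sum_const_zero, zero_add, map_zsmul, bC_self hM hsym] at h
      have hpos := (qC_pos_or_const hM c x).resolve_right hc
      have hlast : a (Fin.last r) = 0 := by
        rcases (show a (Fin.last r) = 0 ∨ qC hM c x = 0 by simpa using h) with h' | h'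
        · exact h'
        · omega
      exact funext fun l => Fin.lastCases hlast hold l
  obtain ⟨cs, xs, hind⟩ := key (R + 1)
  have hli : LinearIndependent ℤ xs := Fintype.linearIndependent_iff.2 fun a ha => congrFun (hind a fun i => by
    have hz : ∑ l, a l • (xs l : HomAb A B) = 0 := by
      have := congrArg (Subtype.val : Γ → HomAb A B) ha
      simpa using this
    rw [hz, map_zero])
  have := hli.fintype_card_le_finrank
  rw [Fintype.card_fin] at this
  omega

include hM hsym in
/-- The degree forms on finitely many curves add up to a positive definite form on a finitely generated group. -/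
theorem exists_form (Γ : Submodule ℤ (HomAb A B)) [Module.Finite ℤ Γ] :
    ∃ (r : ℕ) (cs : Fin r → Crv A),
      ∀ x ∈ Γ, x ≠ 0 → 0 < ∑ i, qC hM (cs i) x := by
  obtain ⟨r, cs, hcs⟩ := exists_curves hM hsym Γ
  refine ⟨r, cs, fun x hx hne => (Finset.sum_nonneg fun i _ => qC_nonneg hM (cs i) x).lt_of_ne fun h0 => hne ?_⟩
  refine hcs x hx fun i => (qC_pos_or_const hM (cs i) x).resolve_left ?_
  rw [(Finset.sum_eq_zero_iff_of_nonneg fun i _ => qC_nonneg hM (cs i) x).1 h0.symm i (Finset.mem_univ i)]
  exact lt_irrefl 0

end Groth.Agent.AVFrob
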