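import Groth.Agent.FrobIter.Basic
import Groth.Agent.WeilLib.PowMap
import Groth.Agent.KodV43.FrobPow
import Groth.Agent.H23.PicMul
import Groth.Agent.H23.MulTangent

/-!
Power maps of schemes: their effect on line bundles and on tangent vectors.
-/

noncomputable section

set_option autoImplicit false
set_option linter.style.haveILetI false
set_option linter.unusedSectionVars false
set_option backward.isDefEq.respectTransparency false
set_option backward.isDefEq.respectTransparency.types false
set_option maxHeartbeats 1000000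

universe u

open CategoryTheory CategoryTheory.Limits AlgebraicGeometry TopologicalSpace Opposite

namespace Groth.Agent.AVFrob

open Groth.Agent.WeilLib Groth.Agent.FrobIter
open scoped Groth.Agent.H23.PicMul

variable {X : Scheme.{u}}

theorem appLE_congr_hom {Y : Scheme.{u}} {f g : X ⟶ Y} (h : f = g) (U : Y.Opens) (V : X.Opens) (e : V ≤ f ⁻¹ᵁ U)
    (e' : V ≤ g ⁻¹ᵁ U) : f.appLE U V e = g.appLE U V e' := by
  subst h; rfl

theorem isPowMap_unique {F G : X ⟶ X} {Q : ℕ} (hF : IsPowMap F Q) (hG : IsPowMap G Q) : F = G := by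
  have hb : F.base = G.base := TopCat.ext fun x => (hF.base x).trans (hG.base x).symm
  refine Scheme.Hom.ext hb fun U => ?_
  have e1 : ∀ (H : X ⟶ X) (hH : IsPowMap H Q) (e : H ⁻¹ᵁ U ≤ U) (s : Γ(X, U)),
      (H.app U).hom s = (X.presheaf.map (homOfLE e).op).hom (s ^ Q) := by
    intro H hH e s
    rw [← hH.app U (hH.le U) s]
    show _ = (H.appLE U U (hH.le U) ≫ X.presheaf.map (homOfLE e).op).hom s
    rw [Scheme.Hom.appLE_map, ← Scheme.Hom.app_eq_appLE]
  have hle : ∀ (H : X ⟶ X) (hH : IsPowMap H Q), H ⁻¹ᵁ U ≤ U := fun H hH x hx => by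
    rw [← hH.base x]; exact hx
  ext s
  simp only [CommRingCat.hom_comp, RingHom.comp_apply]
  rw [e1 F hF (hle F hF), e1 G hG (hle G hG)]
  rw [← CommRingCat.comp_apply, ← Functor.map_comp]
  rfl

variable (p : ℕ) [Fact p.Prime] [FrobSch.IsCharP X p]

theorem isPowMap_iter (N : ℕ) : IsPowMap (iter p X N) (p ^ N) := by
  induction N with
  | zero => rw [pow_zero]; exact isPowMap_id
  | succ N ih =>
    rw [iter, pow_succ]
    refine ih.comp ⟨fun x => rfl, fun U h s => ?_⟩
    show X.presheaf.map (homOfLE h).op ((FrobSch.frob X p).app U s) = _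
    rw [FrobSch.frob_app]
    exact ConcreteCategory.congr_hom (X.presheaf.map_id _) _

theorem eq_iter {F : X ⟶ X} {N : ℕ} (hF : IsPowMap F (p ^ N)) : F = iter p X N :=
  isPowMap_unique hF (isPowMap_iter p N)

/-- The inverse image of an invertible class along an iterated Frobenius is a power. -/
theorem pullCl_iter {c : PicF.Cl X} (hc : PicF.IsInvertibleCl c) (N : ℕ) :
    PicF.pullCl (iter p X N) c = c ^ (p ^ N) := by
  induction N with
  | zero => rw [show iter p X 0 = 𝟙 X from rfl, PicClLib.pullCl_id, pow_zero, pow_one]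
  | succ N ih =>
    obtain ⟨L, rfl, hL⟩ := hc
    have h1 : PicF.pullCl (FrobSch.frob X p) (PicF.cl L) = PicF.cl L ^ p := by
      rw [← H23.PicMul.cl_tensorPow]
      exact (PicGrp.cl_eq_cl_iff _ _).2 (KodV43.nonempty_frobPullIso p hL)
    rw [show iter p X (N + 1) = iter p X N ≫ FrobSch.frob X p from rfl, ← PicClLib.pullCl_comp, h1, H23.PicMul.pullCl_pow, ih, ← pow_mul, ← pow_succ]

theorem pullCl_powMap {F : X ⟶ X} {N : ℕ} (hF : IsPowMap F (p ^ N)) {c : PicF.Cl X} (hc : PicF.IsInvertibleCl c) :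
    PicF.pullCl F c = c ^ (p ^ N) := by
  rw [eq_iter p hF, pullCl_iter p hc]

/-- A power map of exponent a positive power of `p` kills tangent vectors. -/
theorem comp_powMap_eq {K : Type u} [Field K] [CharP K p] {F : X ⟶ X} {N : ℕ} (hN : 0 < N)
    (hF : IsPowMap F (p ^ N)) (t a : Spec (CommRingCat.of (TrivSqZeroExt K K)) ⟶ X)
    (h : Spec.map (CommRingCat.ofHom (TrivSqZeroExt.fstHom K K K).toRingHom) ≫ t =
      Spec.map (CommRingCat.ofHom (TrivSqZeroExt.fstHom K K K).toRingHom) ≫ a) : t ≫ F = a ≫ F := by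
  haveI : CharP (TrivSqZeroExt K K) p :=
    charP_of_injective_algebraMap (algebraMap K (TrivSqZeroExt K K)).injective p
  have hfac : iterateFrobenius (TrivSqZeroExt K K) p N =
      ((TrivSqZeroExt.inlHom K K).comp (iterateFrobenius K p N)).comp (TrivSqZeroExt.fstHom K K K).toRingHom := by
    refine RingHom.ext fun x => ?_
    show x ^ p ^ N = TrivSqZeroExt.inl (x.fst ^ p ^ N)
    ext
    · simp
    · rw [TrivSqZeroExt.snd_pow, TrivSqZeroExt.snd_inl]
      have h0 : ((p ^ N : ℕ) : K) = 0 := by
        rw [Nat.cast_pow, CharP.cast_eq_zero, zero_pow hN.ne']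
      simp [← Nat.cast_smul_eq_nsmul K, h0]
  rw [eq_iter p hF, ← iter_comp t N, ← iter_comp a N, iter_Spec, hfac,
    show ∀ {A B C : Type u} [CommRing A] [CommRing B] [CommRing C] (g : B →+* C) (f : A →+* B),
      Spec.map (CommRingCat.ofHom (g.comp f)) =
        Spec.map (CommRingCat.ofHom g) ≫ Spec.map (CommRingCat.ofHom f) from fun g f => Spec.map_comp _ _,
    Category.assoc, Category.assoc, h]

end Groth.Agent.AVFrob
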