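import Groth.Agent.AVFrob.LinAlg
import Groth.Agent.AVFrob.Curves
import Groth.Agent.AVFrob.Frob
import Groth.Agent.AVDegPoly.AnyField
import Groth.Agent.AVTors2.HomFG

/-!
The Frobenius endomorphism of an abelian variety over a finite field scales a positive definite form on the
endomorphism ring by `q`.
-/

noncomputable section

set_option linter.style.haveILetI false
set_option linter.unusedSectionVars false
set_option backward.isDefEq.respectTransparency false
set_option backward.isDefEq.respectTransparency.types false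
set_option maxHeartbeats 1600000
set_option synthInstance.maxHeartbeats 400000
set_option autoImplicit false

universe u

open CategoryTheory CategoryTheory.Limits MonoidalCategory CartesianMonoidalCategory MonObj AlgebraicGeometry TopologicalSpace
open scoped Polynomial

namespace Groth.Agent.AVFrob

open Groth.Agent.AbTors Groth.Agent.H23 Groth.Agent.WeilLib Groth.Agent.AVCube
open scoped Groth.Agent.H23.PicMul

variable {k : Type u} [Field k] [Finite k] {A : Over (Spec (CommRingCat.of k))}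
  [GrpObj A] [IsCommMonObj A] [IsProper A.hom] [GeometricallyIntegral A.hom]

variable (k) in
theorem exists_char_pow : ∃ (p e : ℕ), p.Prime ∧ CharP k p ∧ 0 < e ∧ Nat.card k = p ^ e := by
  haveI := Fintype.ofFinite k
  obtain ⟨p, hp⟩ := CharP.exists k
  obtain ⟨e, hprime, he⟩ := FiniteField.card k p
  exact ⟨p, e, hprime, hp, e.pos, by rw [Nat.card_eq_fintype_card, he]⟩

theorem isPowMap_frob (πA : A ⟶ A) (hπAb : πA.left.base = 𝟙 _)
    (hπAle : ∀ U : A.left.Opens, U ≤ πA.left ⁻¹ᵁ U)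
    (hπAapp : ∀ (U : A.left.Opens) (s : Γ(A.left, U)), (πA.left.appLE U U (hπAle U)).hom s = s ^ Nat.card k) :
    IsPowMap πA.left (Nat.card k) where
  base x := by
    show πA.left.base x = x
    rw [hπAb]
    rfl
  app U _ s := hπAapp U s

/-- The Weil polynomial of the Frobenius endomorphism. -/
theorem exists_weil_poly_frob (πA : A ⟶ A) [IsMonHom πA] (hπ : IsPowMap πA.left (Nat.card k)) :
    ∃ h : ℤ[X], h.Monic ∧ h.eval₂ (Int.castRingHom (EndAV.End A)) (EndAV.End.of πA) = 0 ∧ Squarefree (h.map (Int.castRingHom ℚ)) ∧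
      ∀ ω : ℂ, (h.map (Int.castRingHom ℂ)).eval ω = 0 → ‖ω‖ = Real.sqrt (Nat.card k) := by
  classical
  obtain ⟨g, hg⟩ : ∃ g : ℕ, topologicalKrullDim A.left = g := by
    haveI : IsIntegral A.left := GeometricallyIntegral.isIntegral_of_subsingleton A.hom
    exact ⟨_, VarDim.topologicalKrullDim_eq_deg_genericPoint A.hom⟩
  obtain ⟨hfree, hfin, -⟩ := AVTors2.hom_finite_free (A := A) (B := A) hg hg
  haveI : Module.Free ℤ (EndAV.End A) := hfree
  haveI : Module.Finite ℤ (EndAV.End A) := hfin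
  let Ω := AlgebraicClosure k
  let F := Over.pullback (ext k Ω)
  obtain ⟨_, _⟩ := bc_props k Ω A
  let A' := Red.bc (ext k Ω) A
  haveI : IsCommMonObj A' := isCommMonObj_of_isProper_of_geometricallyIntegral _
  haveI hbc : ∀ φ : EndAV.End A, IsMonHom (F.map φ.toHom : A' ⟶ A') := fun φ =>
    H23.BcComp.isMonHom_bc_map (ext k Ω) φ.toHom
  let ψ : EndAV.End A →+ HomAb A' A' :=
    AddMonoidHom.mk' (fun φ => Additive.ofMul (⟨F.map φ.toHom, hbc φ⟩ : homs A' A'))
      fun φ χ => Additive.toMul.injective (Subtype.ext (by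
        show F.map (φ.toHom * χ.toHom) = _
        rw [CategoryTheory.Functor.map_mul]
        rfl))
  have hψ : Function.Injective ψ := fun φ χ h =>
    EndAV.End.ext (map_injective Ω _ _ (congrArg (fun z : HomAb A' A' => (z.toMul.1 : A' ⟶ A')) h))
  -- the polarisation
  obtain ⟨M₀, hM₀, ⟨hsym₀⟩⟩ := S8121.result k A
  let p₁ := pullback.fst A.hom (ext k Ω)
  let M : A'.left.Modules := (Scheme.Modules.pullback p₁).obj M₀
  have hM : CohB1.IsAmple M := by
    haveI : IsAffineHom p₁ := MorphismProperty.pullback_fst _ _ inferInstance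
    haveI : CompactSpace A'.left := QuasiCompact.compactSpace_of_compactSpace A'.hom
    exact isAmple_pullback_of_isAffineHom p₁ hM₀
  have hclM : PicF.cl M = PicF.pullCl p₁ (PicF.cl M₀) := rfl
  have hcomm : ∀ φ : A ⟶ A, (F.map φ : A' ⟶ A').left ≫ p₁ = p₁ ≫ φ.left := fun φ =>
    (AVDegPoly.isPullback_map φ).w.symm
  have hsym : Nonempty ((Scheme.Modules.pullback ((𝟙 A')⁻¹ : A' ⟶ A').left).obj M ≅ M) := by
    refine (PicGrp.cl_eq_cl_iff _ _).1 ?_
    show PicF.pullCl ((𝟙 A')⁻¹ : A' ⟶ A').left (PicF.cl M) = _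
    rw [hclM, PicClLib.pullCl_comp, show ((𝟙 A')⁻¹ : A' ⟶ A') = F.map (𝟙 A)⁻¹ by
      show _ = (F.homMonoidHom : (A ⟶ A) →* (A' ⟶ A')) (𝟙 A)⁻¹
      rw [map_inv]
      show _ = (F.map (𝟙 A))⁻¹
      rw [CategoryTheory.Functor.map_id], hcomm, ← PicClLib.pullCl_comp]
    exact congrArg _ ((PicGrp.cl_eq_cl_iff _ _).2 ⟨hsym₀⟩).symm
  haveI : Module.Finite ℤ (LinearMap.range ψ.toIntLinearMap) := inferInstance
  obtain ⟨r, cs, hcs⟩ := exists_form hM hsym (LinearMap.range ψ.toIntLinearMap)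
  let b : EndAV.End A →+ EndAV.End A →+ ℤ :=
    AddMonoidHom.mk' (fun x => ((∑ i, bC hM (cs i) : HomAb A' A' →+ HomAb A' A' →+ ℤ) (ψ x)).comp ψ) fun x y => by
      ext z
      simp only [map_add, AddMonoidHom.comp_apply, AddMonoidHom.add_apply]
  have hb : ∀ x y, b x y = ∑ i, bC hM (cs i) (ψ x) (ψ y) := fun x y => by
    show (∑ i, bC hM (cs i) : HomAb A' A' →+ HomAb A' A' →+ ℤ) (ψ x) (ψ y) = _
    simp
  have hbC : ∀ (c : Crv A') (f h : HomAb A' A'), bC hM c f h = qC hM c (f + h) - qC hM c f - qC hM c h :=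
    fun _ _ _ => rfl
  -- Frobenius
  obtain ⟨p, e, hp, hcp, he, hq⟩ := exists_char_pow k
  haveI : Fact p.Prime := ⟨hp⟩
  haveI : CharP k p := hcp
  haveI : FrobSch.IsCharP A.left p := FrobSch.IsCharP.of_hom A.hom p
  rw [hq] at hπ ⊢
  have hscale : ∀ (c : Crv A') (x : EndAV.End A),
      qC hM c (ψ (EndAV.End.of πA * x)) = (p ^ e : ℕ) * qC hM c (ψ x) := by
    intro c x
    letI : c.C.left.Over (Spec (CommRingCat.of Ω)) := ⟨c.C.hom⟩
    haveI := c.integral
    haveI : IsProper (c.C.left ↘ Spec (CommRingCat.of Ω)) := c.proper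
    let v : c.C ⟶ A' := c.j ≫ F.map x.toHom
    show dg Ω (pc hM.1 (c.j ≫ F.map (EndAV.End.of πA * x).toHom) : PicF.Cl c.C.left) =
      ((p ^ e : ℕ) : ℤ) * dg Ω (pc hM.1 v : PicF.Cl c.C.left)
    rw [EndAV.End.toHom_mul, EndAV.End.toHom_of, Functor.map_comp, ← Category.assoc]
    have hpow : PicF.pullCl (F.map πA : A' ⟶ A').left (PicF.cl M) = PicF.cl M ^ (p ^ e) := by
      rw [hclM, PicClLib.pullCl_comp, hcomm, ← PicClLib.pullCl_comp,
        pullCl_powMap p hπ ⟨M₀, rfl, hM₀.1⟩, PicMul.pullCl_pow]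
    have hval : (pc hM.1 (v ≫ F.map πA) : PicF.Cl c.C.left) = (pc hM.1 v : PicF.Cl c.C.left) ^ (p ^ e) := by
      rw [val_pc', val_pc', Over.comp_left, ← PicClLib.pullCl_comp, hpow, PicMul.pullCl_pow]
    rw [hval, dg_pow Ω c.dim (isInvertibleCl_pc hM v)]
  refine Exists.imp (fun h hh => ⟨hh.1, ?_, hh.2.2⟩)
    (exists_weil_poly b (EndAV.End.of πA) (p ^ e) (fun x y => ?_) (fun x hx => ?_) (pow_pos hp.pos e) fun x y => ?_)
  · refine Eq.trans ?_ hh.2.1
    show _ = Polynomial.eval₂ _ _ h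
    exact congrArg (fun f => Polynomial.eval₂ f (EndAV.End.of πA) h) (RingHom.ext_int _ _)
  · rw [hb, hb]
    refine Finset.sum_congr rfl fun i _ => ?_
    rw [hbC, hbC, add_comm (ψ x) (ψ y)]
    ring
  · rw [hb]
    simp only [bC_self hM hsym, ← Finset.mul_sum]
    exact mul_pos two_pos (hcs _ ⟨x, rfl⟩ fun h0 => hx (hψ (h0.trans ψ.map_zero.symm)))
  · rw [hb, hb, Finset.mul_sum]
    refine Finset.sum_congr rfl fun i _ => ?_
    rw [hbC, hbC, ← map_add, ← mul_add, hscale, hscale, hscale, map_add]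
    ring

end Groth.Agent.AVFrob
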