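import Groth.Agent.AVTors2.MinPoly
import Mathlib.LinearAlgebra.Matrix.Charpoly.Coeff
import Mathlib.LinearAlgebra.Matrix.BilinearForm
import Mathlib.LinearAlgebra.Matrix.ToLinearEquiv
import Mathlib.Analysis.Complex.Basic
import Mathlib.Analysis.Real.Sqrt
import Mathlib.Topology.Instances.Rat
import Mathlib.RingTheory.Polynomial.GaussLemma
import Mathlib.Algebra.Squarefree.Basic

/-!
An element of a lattice ring scaling a positive definite form by `q`: its minimal polynomial is squarefree
and all its complex roots have absolute value `√q`.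
-/

noncomputable section

set_option autoImplicit false
set_option linter.unusedSectionVars false
set_option linter.style.haveILetI false
set_option maxHeartbeats 1000000

open Polynomial Matrix

namespace Groth.Agent.AVFrob

section Real

variable {n : Type*} [Fintype n] [DecidableEq n] (G : Matrix n n ℤ)

/-- The quadratic form over `ℝ`. -/
def qf (v : n → ℝ) : ℝ := ∑ i, ∑ j, v i * ((G i j : ℤ) : ℝ) * v j

theorem qf_nonneg (hpos : ∀ v : n → ℤ, v ≠ 0 → 0 < v ⬝ᵥ G *ᵥ v) (v : n → ℝ) : 0 ≤ qf G v := by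
  have hcl : IsClosed {v : n → ℝ | 0 ≤ qf G v} := isClosed_le continuous_const (by unfold qf; fun_prop)
  have hd : DenseRange fun a : n → ℚ => fun i => ((a i : ℚ) : ℝ) :=
    DenseRange.piMap fun _ => Rat.denseRange_cast
  refine (hcl.closure_subset_iff.2 ?_) (hd v)
  rintro _ ⟨a, rfl⟩
  let D : ℕ := ∏ i, (a i).den
  have hD : 0 < D := Finset.prod_pos fun i _ => (a i).den_pos
  have hint : ∀ i, ∃ z : ℤ, (z : ℝ) = (D : ℝ) * ((a i : ℚ) : ℝ) := fun i => by
    obtain ⟨c, hc⟩ : (a i).den ∣ D := Finset.dvd_prod_of_mem _ (Finset.mem_univ i)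
    refine ⟨(a i).num * c, ?_⟩
    rw [hc, Rat.cast_def]
    push_cast
    field_simp
  choose z hz using hint
  have h0 : (0 : ℤ) ≤ z ⬝ᵥ G *ᵥ z := by
    by_cases h : z = 0
    · simp [h]
    · exact (hpos z h).le
  have h1 : ((z ⬝ᵥ G *ᵥ z : ℤ) : ℝ) = (D : ℝ) ^ 2 * qf G fun i => ((a i : ℚ) : ℝ) := by
    simp only [dotProduct, Matrix.mulVec, qf, Int.cast_sum, Int.cast_mul, Finset.mul_sum, hz]
    exact Finset.sum_congr rfl fun i _ => Finset.sum_congr rfl fun j _ => by ring
  have h2 : (0 : ℝ) ≤ ((z ⬝ᵥ G *ᵥ z : ℤ) : ℝ) := by exact_mod_cast h0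
  rw [h1] at h2
  exact (mul_nonneg_iff_of_pos_left (by positivity)).1 h2

theorem qf_pos (hsym : ∀ i j, G i j = G j i) (hpos : ∀ v : n → ℤ, v ≠ 0 → 0 < v ⬝ᵥ G *ᵥ v) {v : n → ℝ}
    (hv : v ≠ 0) : 0 < qf G v := by
  refine (qf_nonneg G hpos v).lt_of_ne fun h0 => ?_
  let GR : Matrix n n ℝ := G.map fun x : ℤ => (x : ℝ)
  have hlin : GR *ᵥ v = 0 := by
    funext i
    show (GR *ᵥ v) i = 0
    let w : n → ℝ := GR *ᵥ v
    have key : ∀ t : ℝ, 0 ≤ 2 * t * w i + t ^ 2 * (G i i : ℝ) := fun t => by
      have h := qf_nonneg G hpos fun j => v j + if j = i then t else 0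
      have e : qf G (fun j => v j + if j = i then t else 0) = qf G v + 2 * t * w i + t ^ 2 * (G i i : ℝ) := by
        have e1 : ∑ x, t * (G i x : ℝ) * v x = t * w i := by
          simp only [w, GR, Matrix.mulVec, dotProduct, Matrix.map_apply, Finset.mul_sum, mul_assoc]
        have e2 : ∑ x, v x * (G x i : ℝ) * t = t * w i := by
          rw [← e1]
          exact Finset.sum_congr rfl fun x _ => by rw [hsym x i]; ring
        simp only [qf, add_mul, mul_add, Finset.sum_add_distrib, ite_mul, zero_mul, mul_ite, mul_zero,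
          Finset.sum_ite_eq', Finset.mem_univ, if_true, e2]
        rw [Finset.sum_comm (f := fun x x_1 => if x = i then t * (G x x_1 : ℝ) * v x_1 else 0)]
        simp only [Finset.sum_ite_eq', Finset.mem_univ, if_true, e1]
        ring
      rw [e, ← h0] at h
      linarith
    by_contra hw
    have hwpos : 0 < w i ^ 2 := by positivity
    set c : ℝ := |(G i i : ℝ)| + 1 with hc
    have hcpos : 0 < c := by positivity
    have h := key (-w i / c)
    have : 2 * (-w i / c) * w i + (-w i / c) ^ 2 * (G i i : ℝ) < 0 := by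
      have hle : (G i i : ℝ) ≤ c - 1 := by rw [hc]; linarith [le_abs_self (G i i : ℝ)]
      field_simp
      nlinarith [mul_le_mul_of_nonneg_left hle hwpos.le]
    linarith
  have hdet : GR.det = 0 := Matrix.exists_mulVec_eq_zero_iff.1 ⟨v, hv, hlin⟩
  have hdetZ : G.det = 0 := by
    have : ((G.det : ℤ) : ℝ) = 0 := by
      rw [Int.cast_det]
      exact hdet
    exact_mod_cast this
  obtain ⟨z, hz, hz0⟩ := Matrix.exists_mulVec_eq_zero_iff.2 hdetZ
  have := hpos z hz
  simp [hz0] at this

/-- An eigenvalue of a similitude of a positive form. -/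
theorem norm_eq_sqrt_of_isRoot_charpoly (hsym : ∀ i j, G i j = G j i)
    (hpos : ∀ v : n → ℤ, v ≠ 0 → 0 < v ⬝ᵥ G *ᵥ v) (M : Matrix n n ℤ) (q : ℕ)
    (hM : Mᵀ * G * M = (q : ℤ) • G) {ω : ℂ}
    (hω : (M.charpoly.map (Int.castRingHom ℂ)).eval ω = 0) : ‖ω‖ = Real.sqrt q := by
  rw [← Matrix.charpoly_map, Matrix.eval_charpoly] at hω
  obtain ⟨v, hv, hv0⟩ := Matrix.exists_mulVec_eq_zero_iff.2 hω
  rw [Matrix.sub_mulVec, sub_eq_zero, Matrix.scalar_apply] at hv0
  let MR : Matrix n n ℝ := M.map fun x : ℤ => (x : ℝ)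
  let a : n → ℝ := fun i => (v i).re
  let b : n → ℝ := fun i => (v i).im
  have hev : ∀ i, ω * v i = ∑ j, ((M i j : ℤ) : ℂ) * v j := fun i => by
    have := congrFun hv0 i
    simpa [Matrix.mulVec, dotProduct, Matrix.diagonal_apply] using this
  have hMa : MR *ᵥ a = fun i => ω.re * a i - ω.im * b i := by
    funext i
    have := congrArg Complex.re (hev i)
    simp [Complex.mul_re] at this
    simp only [MR, a, b, Matrix.mulVec, dotProduct, Matrix.map_apply]
    linarith
  have hMb : MR *ᵥ b = fun i => ω.re * b i + ω.im * a i := by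
    funext i
    have := congrArg Complex.im (hev i)
    simp [Complex.mul_im] at this
    simp only [MR, a, b, Matrix.mulVec, dotProduct, Matrix.map_apply]
    linarith
  let GR : Matrix n n ℝ := G.map fun x : ℤ => (x : ℝ)
  have hqf : ∀ x : n → ℝ, qf G x = x ⬝ᵥ GR *ᵥ x := fun x => by
    simp only [qf, GR, Matrix.mulVec, dotProduct, Matrix.map_apply, Finset.mul_sum, mul_assoc]
  have hMR : MRᵀ * GR * MR = (q : ℝ) • GR := by
    have h := congrArg (fun m : Matrix n n ℤ => m.map (Int.castRingHom ℝ)) hM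
    simp only [Matrix.map_mul] at h
    rw [Matrix.transpose_map] at h
    convert h using 1
    · rfl
    · ext i j
      show (q : ℝ) * ((G i j : ℤ) : ℝ) = Int.castRingHom ℝ (((q : ℤ) • G) i j)
      rw [Matrix.smul_apply, smul_eq_mul, map_mul]
      simp
  have hiso : ∀ x : n → ℝ, qf G (MR *ᵥ x) = q * qf G x := fun x => by
    rw [hqf, hqf, Matrix.mulVec_mulVec, Matrix.dotProduct_mulVec, ← Matrix.vecMul_transpose,
      Matrix.vecMul_vecMul, ← Matrix.mul_assoc, hMR, ← Matrix.dotProduct_mulVec, Matrix.smul_mulVec,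
      dotProduct_smul, smul_eq_mul]
  have hsum : qf G (MR *ᵥ a) + qf G (MR *ᵥ b) = (ω.re ^ 2 + ω.im ^ 2) * (qf G a + qf G b) := by
    rw [hMa, hMb]
    simp only [qf, Finset.mul_sum, ← Finset.sum_add_distrib]
    exact Finset.sum_congr rfl fun i _ => Finset.sum_congr rfl fun j _ => by ring
  rw [hiso, hiso, ← mul_add] at hsum
  have hP : 0 < qf G a + qf G b := by
    by_cases ha : a = 0
    · have hb : b ≠ 0 := fun hb => hv (funext fun i => Complex.ext (congrFun ha i) (congrFun hb i))
      linarith [qf_pos G hsym hpos hb, qf_nonneg G hpos a]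
    · linarith [qf_pos G hsym hpos ha, qf_nonneg G hpos b]
  have hq : (q : ℝ) = ω.re ^ 2 + ω.im ^ 2 := mul_right_cancel₀ hP.ne' hsum
  rw [Complex.norm_def, Complex.normSq_apply, hq]
  ring_nf

end Real

section Lattice

variable {R : Type*} [Ring R] [Module.Free ℤ R] [Module.Finite ℤ R]
  (b : R →+ R →+ ℤ) (π : R) (q : ℕ)

/-- A nilpotent polynomial in `π` vanishes. -/
theorem aeval_eq_zero_of_sq (hsym : ∀ x y, b x y = b y x) (hdef : ∀ x, b x x = 0 → x = 0) (hq : 0 < q)
    (hscale : ∀ x y, b (π * x) (π * y) = q * b x y) (P : ℤ[X]) (hP : aeval π P * aeval π P = 0) :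
    aeval π P = 0 := by
  have hpow : ∀ (i : ℕ) x y, b (π ^ i * x) (π ^ i * y) = (q : ℤ) ^ i * b x y := by
    intro i
    induction i with
    | zero => intro x y; simp
    | succ i ih =>
      intro x y
      rw [pow_succ', mul_assoc π, mul_assoc π, hscale, ih, pow_succ']
      ring
  set d := P.natDegree
  let P' : ℤ[X] := ∑ i ∈ Finset.range (d + 1), C (P.coeff i * (q : ℤ) ^ i) * X ^ (d - i)
  set y := aeval π P
  set y' := aeval π P'
  have hadj : ∀ z w, b (y * z) (π ^ d * w) = b z (y' * w) := by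
    intro z w
    simp only [y, y', P', aeval_eq_sum_range (p := P), map_sum, map_mul, map_pow, aeval_C, aeval_X, Finset.sum_mul,
      AddMonoidHom.finset_sum_apply]
    refine Finset.sum_congr rfl fun i hi => ?_
    have hi' : i ≤ d := Nat.lt_succ_iff.1 (Finset.mem_range.1 hi)
    simp only [eq_intCast, ← Int.cast_pow, ← zsmul_eq_mul, mul_assoc, smul_mul_assoc, smul_smul, map_zsmul,
      AddMonoidHom.smul_apply, Nat.cast_pow]
    rw [show π ^ d * w = π ^ i * (π ^ (d - i) * w) by rw [← mul_assoc, ← pow_add, Nat.add_sub_cancel' hi'],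
      hpow, smul_eq_mul, smul_eq_mul]
    ring
  have hcomm : Commute y y' := by
    show aeval π P * aeval π P' = aeval π P' * aeval π P
    rw [← map_mul, ← map_mul, mul_comm]
  have h0 : ∀ z, y' * (y * z) = 0 := fun z => hdef _ (by
    rw [← hadj, ← mul_assoc y, hcomm.eq, mul_assoc y', ← mul_assoc y, hP, zero_mul, mul_zero, map_zero,
      AddMonoidHom.zero_apply])
  have hπy : Commute (π ^ d) y := by
    show π ^ d * y = y * π ^ d
    rw [show π ^ d = aeval π (X ^ d : ℤ[X]) by simp, ← map_mul, ← map_mul, mul_comm]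
  have h1 : π ^ d * y = 0 := hdef _ (by
    conv_lhs => arg 1; arg 2; rw [hπy.eq]
    rw [show π ^ d * y = π ^ d * (y * 1) by rw [mul_one], hadj, h0, map_zero])
  refine hdef _ ?_
  have h2 := hpow d y y
  rw [h1, map_zero] at h2
  exact (mul_eq_zero.1 h2.symm).resolve_left (pow_ne_zero _ (by exact_mod_cast hq.ne'))

/-- The minimal polynomial is squarefree with roots of absolute value `√q`. -/
theorem exists_weil_poly (hsym : ∀ x y, b x y = b y x) (hpos : ∀ x, x ≠ 0 → 0 < b x x) (hq : 0 < q)
    (hscale : ∀ x y, b (π * x) (π * y) = q * b x y) :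
    ∃ h : ℤ[X], h.Monic ∧ aeval π h = 0 ∧ Squarefree (h.map (Int.castRingHom ℚ)) ∧
      ∀ ω : ℂ, (h.map (Int.castRingHom ℂ)).eval ω = 0 → ‖ω‖ = Real.sqrt q := by
  classical
  obtain ⟨h, hm, h0, hind⟩ := AVTors2.exists_minimal_monic π
  have hdef : ∀ x, b x x = 0 → x = 0 := fun x hx => by_contra fun hne => (hpos x hne).ne' hx
  have hmin : ∀ P : ℤ[X], P.natDegree < h.natDegree → aeval π P = 0 → P = 0 := fun P hd hP => by
    ext m
    rw [Polynomial.coeff_zero]
    by_cases hm' : m < h.natDegree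
    · rw [Fintype.linearIndependent_iff] at hind
      refine hind (fun i => P.coeff i) ?_ ⟨m, hm'⟩
      rw [← hP, aeval_eq_sum_range' hd, ← Fin.sum_univ_eq_sum_range (fun i => P.coeff i • π ^ i) h.natDegree]
    · exact coeff_eq_zero_of_natDegree_lt (by omega)
  refine ⟨h, hm, h0, ?_, fun ω hω => ?_⟩
  · rw [squarefree_iff_no_irreducibles]
    rotate_left
    · exact (hm.map _).ne_zero
    intro u hu hdvd
    obtain ⟨w, hw⟩ := hdvd
    have hd1 : u * w ∣ h.map (Int.castRingHom ℚ) := ⟨u, by rw [hw]; ring⟩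
    obtain ⟨Q, hQ⟩ := IsIntegrallyClosed.eq_map_mul_C_of_dvd ℚ hm (g := u * w)
      (by rw [algebraMap_int_eq]; exact hd1)
    rw [algebraMap_int_eq] at hQ
    have hlc : (u * w).leadingCoeff ≠ 0 := by
      rw [leadingCoeff_ne_zero]
      intro h'
      rw [h', zero_dvd_iff] at hd1
      exact (hm.map _).ne_zero hd1
    have hQ0 : Q ≠ 0 := fun h' => hlc (by rw [← hQ, h']; simp)
    have hQd : Q.natDegree < h.natDegree := by
      have h1 : (Q.map (Int.castRingHom ℚ)).natDegree = (u * w).natDegree := by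
        conv_rhs => rw [← hQ, natDegree_mul_C hlc]
      rw [natDegree_map_eq_of_injective (Int.castRingHom ℚ).injective_int] at h1
      have hw0 : w ≠ 0 := fun h' => by rw [h', mul_zero] at hw; exact (hm.map _).ne_zero hw
      have h2 : (h.map (Int.castRingHom ℚ)).natDegree = u.natDegree + (u * w).natDegree := by
        rw [hw, mul_assoc, natDegree_mul hu.ne_zero (mul_ne_zero hu.ne_zero hw0)]
      rw [natDegree_map_eq_of_injective (Int.castRingHom ℚ).injective_int, ← h1] at h2
      have := hu.natDegree_pos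
      omega
    have hsq : h ∣ Q * Q := by
      refine (Polynomial.map_dvd_map (Int.castRingHom ℚ) (Int.castRingHom ℚ).injective_int hm).1 ?_
      have hQ' : Q.map (Int.castRingHom ℚ) = u * w * C ((u * w).leadingCoeff)⁻¹ := by
        have h3 := congrArg (fun x : ℚ[X] => x * C ((u * w).leadingCoeff)⁻¹) hQ
        simp only [mul_assoc (Q.map _), ← map_mul, mul_inv_cancel₀ hlc, map_one, mul_one] at h3
        exact h3
      rw [Polynomial.map_mul, hQ', hw]
      exact ⟨w * C ((u * w).leadingCoeff)⁻¹ * C ((u * w).leadingCoeff)⁻¹, by ring⟩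
    obtain ⟨c, hc⟩ := hsq
    exact hQ0 (hmin Q hQd (aeval_eq_zero_of_sq b π q hsym hdef hq hscale Q (by
      rw [← map_mul, hc, map_mul, h0, zero_mul])))
  · let e := Module.Free.chooseBasis ℤ R
    let L : R →ₗ[ℤ] R := LinearMap.mulLeft ℤ π
    let M := LinearMap.toMatrix e e L
    let G : Matrix _ _ ℤ := Matrix.of fun i j => b (e i) (e j)
    have hvec : ∀ v w : Module.Free.ChooseBasisIndex ℤ R → ℤ, (∑ i, ∑ j, v i * G i j * w j) = b (∑ i, v i • e i) (∑ j, w j • e j) := fun v w => by
      simp only [map_sum, map_zsmul, AddMonoidHom.finset_sum_apply, AddMonoidHom.smul_apply, smul_eq_mul, G,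
        Matrix.of_apply, Finset.mul_sum]
      rw [Finset.sum_comm]
      exact Finset.sum_congr rfl fun i _ => Finset.sum_congr rfl fun j _ => by ring
    have hGpos : ∀ v : Module.Free.ChooseBasisIndex ℤ R → ℤ, v ≠ 0 → 0 < v ⬝ᵥ G *ᵥ v := fun v hv => by
      have : v ⬝ᵥ G *ᵥ v = b (∑ i, v i • e i) (∑ j, v j • e j) := by
        rw [← hvec]
        simp only [dotProduct, Matrix.mulVec, Finset.mul_sum, mul_assoc]
      rw [this]
      refine hpos _ fun h' => hv ?_
      exact funext (Fintype.linearIndependent_iff.1 e.linearIndependent v h')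
    have hMG : Mᵀ * G * M = (q : ℤ) • G := by
      ext i j
      have hcol : ∀ c, ∑ a, M a c • e a = π * e c := fun c => by
        simp only [M, LinearMap.toMatrix_apply]
        exact e.sum_repr (L (e c))
      have : b (π * e i) (π * e j) = (q : ℤ) * b (e i) (e j) := hscale _ _
      rw [← hcol, ← hcol, ← hvec] at this
      rw [Matrix.smul_apply, smul_eq_mul]
      refine Eq.trans ?_ this
      simp only [Matrix.mul_apply, Matrix.transpose_apply, Finset.sum_mul]
      rw [Finset.sum_comm]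
    refine norm_eq_sqrt_of_isRoot_charpoly G (fun i j => hsym _ _) hGpos M q hMG ?_
    have hdvd : h ∣ M.charpoly := by
      refine (Polynomial.modByMonic_eq_zero_iff_dvd hm).1 ?_
      by_cases hd : h.natDegree = 0
      · rw [Polynomial.eq_one_of_monic_natDegree_zero hm hd, Polynomial.modByMonic_one]
      refine hmin _ (Polynomial.natDegree_modByMonic_lt _ hm fun h' => hd (by rw [h', natDegree_one])) ?_
      rw [Polynomial.aeval_modByMonic_eq_self_of_root h0]
      have hL : aeval L M.charpoly = 0 := by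
        rw [show M.charpoly = L.charpoly from LinearMap.charpoly_toMatrix L e]
        exact L.aeval_self_charpoly
      rw [show L = (Algebra.lmul ℤ R π : R →ₗ[ℤ] R) from rfl, aeval_algHom_apply] at hL
      simpa using congrArg (fun f : R →ₗ[ℤ] R => f 1) hL
    obtain ⟨c, hc⟩ := hdvd
    rw [hc, Polynomial.map_mul, eval_mul, hω, zero_mul]

end Lattice

end Groth.Agent.AVFrob
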