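import Groth.Agent.AVFrob.Frob
import Groth.Agent.H23.MulEtale
import Groth.Agent.H23.CubeAb

/-!
Endomorphisms of the form `F - 1`, with `F` killing tangent vectors, are étale.
-/

universe u

open CategoryTheory Limits AlgebraicGeometry MonoidalCategory CartesianMonoidalCategory MonObj TrivSqZeroExt
open Groth.Agent.GrpSchLib Groth.Agent.H23.MulTangent

namespace Groth.Agent.AVFrob

variable {K : Type u} [Field K]

/-- An endomorphism separating tangent vectors with one base point is unramified. -/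
theorem formallyUnramified_of_tangent [IsAlgClosed K] (X : Over (Spec (CommRingCat.of K))) [GrpObj X]
    [LocallyOfFiniteType X.hom] (φ : X ⟶ X)
    (hφ : ∀ t a : specOver K (TrivSqZeroExt K K) ⟶ X,
      specHom (TrivSqZeroExt.fstHom K K K) ≫ t = specHom (TrivSqZeroExt.fstHom K K K) ≫ a →
        t ≫ φ = a ≫ φ → t = a) :
    FormallyUnramified φ.left := by
  set f := φ.left
  have hw : f ≫ X.hom = X.hom := Over.w φ
  rw [HasRingHomProperty.iff_appLE (P := @FormallyUnramified)]
  intro V' V e
  obtain ⟨φA, hφA⟩ := Spec.map_surjective (V'.2.fromSpec ≫ X.hom)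
  obtain ⟨φB, hφB⟩ := Spec.map_surjective (V.2.fromSpec ≫ X.hom)
  let A := Γ(X.left, V'.1)
  let B := Γ(X.left, V.1)
  let : Algebra K A := φA.hom.toAlgebra
  let : Algebra K B := φB.hom.toAlgebra
  haveI hoi := V.2.isOpenImmersion_fromSpec
  let : Algebra A B := (f.appLE V'.1 V.1 e).hom.toAlgebra
  have hcomp : φA ≫ f.appLE V'.1 V.1 e = φB := by
    apply Spec.map_injective
    rw [Spec.map_comp, hφA, hφB, IsAffineOpen.SpecMap_appLE_fromSpec_assoc f V'.2 V.2 e, hw]
  have : IsScalarTower K A B := IsScalarTower.of_algebraMap_eq fun c =>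
    (congrArg (fun q => q.hom c) hcomp).symm
  have hft : Algebra.FiniteType K B := by
    have h : LocallyOfFiniteType (V.2.fromSpec ≫ X.hom) := inferInstance
    rw [← hφB, HasRingHomProperty.Spec_iff (P := @LocallyOfFiniteType)] at h
    exact h
  have : Algebra.FiniteType A B := Algebra.FiniteType.of_restrictScalars_finiteType K A B
  show Algebra.FormallyUnramified A B
  have : IsJacobsonRing B := isJacobsonRing_of_finiteType (A := K)
  refine ⟨(Submodule.subsingleton_iff B).1 (subsingleton_iff_bot_eq_top.1 ?_)⟩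
  by_contra hne
  obtain ⟨m, hm, hsupp⟩ : ∃ m : Ideal B, m.IsMaximal ∧
      (⊥ : Submodule B Ω[B⁄A]).colon ((⊤ : Submodule B Ω[B⁄A]) : Set _) ≤ m :=
    Ideal.exists_le_maximal _ fun htop => hne (by
      refine (eq_bot_iff.2 fun x _ => ?_).symm
      have := (Submodule.mem_colon).1 ((Ideal.eq_top_iff_one _).1 htop) x trivial
      simpa using this)
  have hlt : m • (⊤ : Submodule B Ω[B⁄A]) < ⊤ := by
    refine lt_of_le_of_ne le_top fun h => ?_
    obtain ⟨r, hr1, hr⟩ := Submodule.exists_sub_one_mem_and_smul_eq_zero_of_fg_of_le_smul m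
      (⊤ : Submodule B Ω[B⁄A]) Module.Finite.fg_top h.ge
    have hrm : r ∈ m := hsupp (Submodule.mem_colon.2 fun x _ => by simpa using hr x trivial)
    exact hm.ne_top ((Ideal.eq_top_iff_one m).2 (by simpa using m.sub_mem hrm hr1))
  -- the residue field of `m` is `K`
  have : Module.Finite K (B ⧸ m) := by
    let := Ideal.Quotient.field m
    exact finite_of_finite_type_of_isJacobsonRing K (B ⧸ m)
  let := Ideal.Quotient.field m
  have hbij : Function.Bijective (algebraMap K (B ⧸ m)) :=
    ⟨(algebraMap K (B ⧸ m)).injective,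
      (IsAlgClosed.algebraMap_bijective_of_isIntegral (k := K) (K := B ⧸ m)).2⟩
  let eK : K ≃ₐ[K] B ⧸ m := AlgEquiv.ofBijective (Algebra.ofId K (B ⧸ m)) hbij
  let χ : B →ₐ[K] K := eK.symm.toAlgHom.comp (Ideal.Quotient.mkₐ K m)
  have hχm : ∀ b, b ∈ m → χ b = 0 := fun b hb => by
    simp [χ, Ideal.Quotient.eq_zero_iff_mem.2 hb]
  -- a functional on the cotangent space
  obtain ⟨x, -, hx⟩ := SetLike.exists_of_lt hlt
  let Q := Ω[B⁄A] ⧸ (m • (⊤ : Submodule B Ω[B⁄A]))
  obtain ⟨ℓ, hℓ⟩ := Module.Projective.exists_dual_ne_zero K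
    (show (Submodule.Quotient.mk x : Q) ≠ 0 by rwa [Ne, Submodule.Quotient.mk_eq_zero])
  let D : B →ₗ[K] K := ℓ ∘ₗ (((m • (⊤ : Submodule B Ω[B⁄A])).mkQ.restrictScalars K) ∘ₗ
    ((KaehlerDifferential.D A B).toLinearMap.restrictScalars K))
  have hsmul : ∀ (b : B) (q : Q), b • q = χ b • q := by
    intro b q
    obtain ⟨y, rfl⟩ := Submodule.Quotient.mk_surjective _ q
    rw [← algebraMap_smul B (χ b) (Submodule.Quotient.mk y : Q), ← Submodule.Quotient.mk_smul,
      ← Submodule.Quotient.mk_smul, Submodule.Quotient.eq, ← sub_smul]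
    refine Submodule.smul_mem_smul ?_ trivial
    rw [← Ideal.Quotient.eq]
    show Ideal.Quotient.mk m b = algebraMap K (B ⧸ m) (χ b)
    exact (eK.apply_symm_apply _).symm
  have hD : ∀ a b, D (a * b) = χ a * D b + χ b * D a := by
    intro a b
    show ℓ (Submodule.Quotient.mk (KaehlerDifferential.D A B (a * b))) = _
    rw [Derivation.leibniz, Submodule.Quotient.mk_add, Submodule.Quotient.mk_smul,
      Submodule.Quotient.mk_smul, hsmul, hsmul, map_add, map_smul, map_smul]
    rfl
  have hDne : D ≠ 0 := by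
    intro h
    apply hℓ
    have : ∀ y ∈ Submodule.span B (Set.range (KaehlerDifferential.D A B)),
        ℓ (Submodule.Quotient.mk y) = 0 := by
      intro y hy
      induction hy using Submodule.span_induction with
      | mem y hy => obtain ⟨b, rfl⟩ := hy; exact LinearMap.congr_fun h b
      | zero => simp
      | add y z _ _ h1 h2 => rw [Submodule.Quotient.mk_add, map_add, h1, h2, add_zero]
      | smul b y _ h1 => rw [Submodule.Quotient.mk_smul, hsmul, map_smul, h1, smul_zero]
    exact this x (KaehlerDifferential.span_range_derivation A B ▸ trivial)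
  obtain ⟨g, hg⟩ := exists_algHom_of_derivation χ D hD
  -- the tangent vector and its translate to the unit
  let t := pt (X := X) V.2.fromSpec hφB.symm g
  let a := pt (X := X) V.2.fromSpec hφB.symm ((TrivSqZeroExt.inlAlgHom K K K).comp χ)
  have hgA : ∀ c : A, g (algebraMap A B c) = ((TrivSqZeroExt.inlAlgHom K K K).comp χ) (algebraMap A B c) := by
    intro c
    rw [hg]
    have : D (algebraMap A B c) = 0 := by simp [D]
    simp [this]
  have hfn : ∀ (C : Type u) [CommRing C] [Algebra K C] (h : B →ₐ[K] C),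
      (pt (X := X) V.2.fromSpec hφB.symm h ≫ φ).left =
        Spec.map (f.appLE V'.1 V.1 e ≫ CommRingCat.ofHom h.toRingHom) ≫ V'.2.fromSpec := by
    intro C _ _ h
    rw [Spec.map_comp, Category.assoc, IsAffineOpen.SpecMap_appLE_fromSpec f V'.2 V.2 e]
    show (_ ≫ V.2.fromSpec) ≫ f = _
    exact Category.assoc _ _ _
  have htn : t ≫ φ = a ≫ φ := by
    ext1
    rw [hfn, hfn]
    congr 2
    ext1
    exact RingHom.ext hgA
  have hfst : specHom (TrivSqZeroExt.fstHom K K K) ≫ t = specHom (TrivSqZeroExt.fstHom K K K) ≫ a := by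
    rw [pt_comp, pt_comp]
    congr 1
    ext b
    simp [hg]
  have h1 := hφ t a hfst htn
  have := pt_injective V.2.fromSpec hφB.symm h1
  apply hDne
  ext b
  have := congrArg TrivSqZeroExt.snd (AlgHom.congr_fun this b)
  simpa [hg] using this

/-- `F - 1` is étale when `F` kills tangent vectors. -/
theorem etale_mul_inv [IsAlgClosed K] (X : Over (Spec (CommRingCat.of K))) [GrpObj X] [IsCommMonObj X]
    [IsProper X.hom] [GeometricallyIntegral X.hom] (F : X ⟶ X)
    (hF : ∀ t a : specOver K (TrivSqZeroExt K K) ⟶ X,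
      specHom (TrivSqZeroExt.fstHom K K K) ≫ t = specHom (TrivSqZeroExt.fstHom K K K) ≫ a → t ≫ F = a ≫ F) :
    Etale (F * (𝟙 X)⁻¹ : X ⟶ X).left := by
  haveI : GeometricallyConnected X.hom := Groth.Agent.H23.CubeAb.geometricallyConnected_of_integral X.hom
  haveI : LocallyOfFinitePresentation X.hom := inferInstance
  haveI : GeometricallyReduced X.hom := inferInstance
  haveI := formallyUnramified_of_tangent X (F * (𝟙 X)⁻¹) fun t a hfst h => by
    rw [MonObj.comp_mul, MonObj.comp_mul, hF t a hfst, mul_right_inj, GrpObj.comp_inv, GrpObj.comp_inv,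
      inv_inj, Category.comp_id, Category.comp_id] at h
    exact h
  haveI := Groth.Agent.H23.MulEtale.smooth (X := X)
  refine Groth.Agent.H23.MulEtale.etale_of_rk_eq X.hom _ X.hom (Over.w _) fun x => ?_
  refine (Groth.Agent.H23.MulEtale.isLocallyConstant_rk X.hom).apply_eq_of_isPreconnected
    (X.hom.isConnected_preimage_singleton (X.hom x)).isPreconnected rfl ?_
  show X.hom ((F * (𝟙 X)⁻¹ : X ⟶ X).left x) = X.hom x
  rw [← Scheme.Hom.comp_apply, Over.w]

end Groth.Agent.AVFrob
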