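import Groth.Agent.AVFrob.Form
import Groth.Agent.AVFrob.Unram
import Groth.Agent.AVDegPoly.FieldChar
import Groth.Agent.ZetaLib.PointsOfExt

/-!
The characteristic polynomial of Frobenius: its roots, and the number of points over finite extensions.
-/

noncomputable section

set_option linter.style.haveILetI false
set_option linter.unusedSectionVars false
set_option backward.isDefEq.respectTransparency false
set_option backward.isDefEq.respectTransparency.types false
set_option maxHeartbeats 1600000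
set_option synthInstance.maxHeartbeats 400000
set_option autoImplicit false

universe u

open CategoryTheory CategoryTheory.Limits MonoidalCategory CartesianMonoidalCategory MonObj AlgebraicGeometry TopologicalSpace
open scoped Polynomial

namespace Groth.Agent.AVFrob

open Groth.Agent.AbTors Groth.Agent.H23 Groth.Agent.WeilLib

theorem pow_dvd_of_roots {K : Type*} [Field K] [IsAlgClosed K] {P h : K[X]} (hP : P.Monic)
    (hr : ∀ a, P.eval a = 0 → h.eval a = 0) : P ∣ h ^ P.natDegree := by
  rw [(IsAlgClosed.splits P).natDegree_eq_card_roots, (IsAlgClosed.splits P).eq_prod_roots_of_monic hP]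
  rw [Polynomial.roots_multiset_prod_X_sub_C]
  have hmem : ∀ a ∈ P.roots, h.eval a = 0 := fun a ha => hr a (Polynomial.isRoot_of_mem_roots ha)
  revert hmem
  induction P.roots using Multiset.induction_on with
  | empty => intro; simp
  | cons a s ih =>
    intro hmem
    rw [Multiset.map_cons, Multiset.prod_cons, Multiset.card_cons, pow_succ']
    exact mul_dvd_mul (Polynomial.dvd_iff_isRoot.2 (hmem a (Multiset.mem_cons_self a s)))
      (ih fun b hb => hmem b (Multiset.mem_cons_of_mem hb))

section Dvd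

variable {k : Type u} [Field k] {A : Over (Spec (CommRingCat.of k))} [GrpObj A] [IsCommMonObj A]

open AVDegPoly in
/-- A polynomial annihilating an endomorphism has every characteristic root as a root. -/
theorem charpoly_dvd_pow {l : ℕ} [Fact l.Prime] (T : Over (Spec (CommRingCat.of k)))
    [Module.Free ℤ_[l] (AbDual.TateMod A l T)] [Module.Finite ℤ_[l] (AbDual.TateMod A l T)]
    (f : A ⟶ A) [IsMonHom f] {P h : ℤ[X]} (hP : P.Monic)
    (hcp : (AbDual.tateMapₗ (l := l) (T := T) f).charpoly = P.map (Int.castRingHom ℤ_[l]))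
    (hh : h.eval₂ (Int.castRingHom (EndAV.End A)) (EndAV.End.of f) = 0) :
    P.map (Int.castRingHom ℚ) ∣ h.map (Int.castRingHom ℚ) ^ P.natDegree := by
  classical
  let b := Module.Free.chooseBasis ℤ_[l] (AbDual.TateMod A l T)
  let ρ : EndAV.End A →+* Matrix (Module.Free.ChooseBasisIndex ℤ_[l] (AbDual.TateMod A l T))
      (Module.Free.ChooseBasisIndex ℤ_[l] (AbDual.TateMod A l T)) (PadicAlgCl l) :=
    (zpHom l).mapMatrix.comp ((LinearMap.toMatrixAlgEquiv b).toRingEquiv.toRingHom.comp
      (EndAV.End.tateRep (A := A) l T))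
  have hchar : (ρ (EndAV.End.of f)).charpoly = P.map (Int.castRingHom (PadicAlgCl l)) := by
    rw [show Int.castRingHom (PadicAlgCl l) = (zpHom l).comp (Int.castRingHom ℤ_[l]) from RingHom.ext_int _ _,
      ← Polynomial.map_map, ← hcp, ← LinearMap.charpoly_toMatrix _ b, ← Matrix.charpoly_map]
    rfl
  have h0 : Polynomial.aeval (ρ (EndAV.End.of f)) (h.map (Int.castRingHom (PadicAlgCl l))) = 0 := by
    have h5 := congrArg ρ hh
    rw [map_zero, Polynomial.hom_eval₂] at h5
    rw [Polynomial.aeval_def, Polynomial.eval₂_map, ← h5]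
    exact congrArg (fun g => Polynomial.eval₂ g (ρ (EndAV.End.of f)) h) (RingHom.ext_int _ _)
  have hd : P.map (Int.castRingHom (PadicAlgCl l)) ∣ h.map (Int.castRingHom (PadicAlgCl l)) ^ P.natDegree := by
    have := pow_dvd_of_roots (P := P.map (Int.castRingHom (PadicAlgCl l)))
      (h := h.map (Int.castRingHom (PadicAlgCl l))) (hP.map _) fun a ha => by
      rw [← hchar, Matrix.eval_charpoly] at ha
      have hx : a ∈ spectrum (PadicAlgCl l) (ρ (EndAV.End.of f)) := by
        rw [spectrum.mem_iff, Matrix.isUnit_iff_isUnit_det, Matrix.algebraMap_eq_diagonal]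
        intro hu
        refine hu.ne_zero ?_
        rw [← ha]
        congr 1
      have h3 := spectrum.subset_polynomial_aeval _ (h.map (Int.castRingHom (PadicAlgCl l))) ⟨a, hx, rfl⟩
      rw [h0, spectrum.mem_iff, sub_zero] at h3
      by_contra hne
      exact h3 ((IsUnit.mk0 _ hne).map (algebraMap _ _))
    rwa [hP.natDegree_map] at this
  rw [show Int.castRingHom (PadicAlgCl l) = (algebraMap ℚ (PadicAlgCl l)).comp (Int.castRingHom ℚ) from
    RingHom.ext_int _ _, ← Polynomial.map_map, ← Polynomial.map_map, ← Polynomial.map_pow,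
    Polynomial.map_dvd_map' (algebraMap ℚ (PadicAlgCl l))] at hd
  exact hd

end Dvd

variable {k : Type u} [Field k] [Finite k] {A : Over (Spec (CommRingCat.of k))}
  [GrpObj A] [IsCommMonObj A] [IsProper A.hom] [GeometricallyIntegral A.hom]

theorem isPowMap_pow (πA : A ⟶ A) [IsMonHom πA] (hπ : IsPowMap πA.left (Nat.card k)) (n : ℕ) :
    IsPowMap ((EndAV.End.of πA ^ n).toHom).left (Nat.card k ^ n) := by
  induction n with
  | zero => rw [pow_zero, pow_zero, EndAV.End.toHom_one, Over.id_left]; exact isPowMap_id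
  | succ n ih =>
    rw [EndAV.End.toHom_pow_succ, Over.comp_left, pow_succ (Nat.card k)]
    exact ih.comp hπ

/-- The polynomial of Frobenius: it counts points and its roots have absolute value `√q`. -/
theorem exists_frob_poly (πA : A ⟶ A) [IsMonHom πA] (hπ : IsPowMap πA.left (Nat.card k)) {g : ℕ}
    (hg : topologicalKrullDim A.left = g) :
    ∃ P : ℤ[X], P.Monic ∧ P.natDegree = 2 * g ∧
      (∀ ω : ℂ, (P.map (Int.castRingHom ℂ)).eval ω = 0 → ‖ω‖ = Real.sqrt (Nat.card k)) ∧
      ∀ (K' : Type u) [Field K'] [Algebra k K'] [Finite K'],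
        (Nat.card (Over.mk (Spec.map (CommRingCat.ofHom (algebraMap k K'))) ⟶ A) : ℂ) =
          ((P.map (Int.castRingHom ℂ)).roots.map fun ω => ω ^ Module.finrank k K' - 1).prod := by
  classical
  let Ω := AlgebraicClosure k
  let F := Over.pullback (ext k Ω)
  obtain ⟨_, _⟩ := bc_props k Ω A
  let A' := Red.bc (ext k Ω) A
  haveI : IsCommMonObj A' := isCommMonObj_of_isProper_of_geometricallyIntegral _
  haveI : Subsingleton ↥(Spec (CommRingCat.of k)) := FibDim.subsingleton_spec_field k
  haveI : Subsingleton ↥(Spec (CommRingCat.of Ω)) := FibDim.subsingleton_spec_field Ω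
  haveI : Nonempty ↥(Spec (CommRingCat.of Ω)) := inferInstanceAs (Nonempty (PrimeSpectrum Ω))
  have hg' : topologicalKrullDim A'.left = g :=
    (FibDim.topologicalKrullDim_baseChange (IsPullback.of_hasPullback A.hom (ext k Ω))).trans hg
  haveI hbc : ∀ φ : EndAV.End A, IsMonHom (F.map φ.toHom : A' ⟶ A') := fun φ =>
    H23.BcComp.isMonHom_bc_map (ext k Ω) φ.toHom
  let ψ : EndAV.End A →+* EndAV.End A' :=
    { toFun := fun φ => EndAV.End.of (F.map φ.toHom : A' ⟶ A')
      map_one' := EndAV.End.ext (F.map_id A)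
      map_mul' := fun φ χ => EndAV.End.ext (F.map_comp χ.toHom φ.toHom)
      map_zero' := EndAV.End.ext (by
        show (F.homMonoidHom : (A ⟶ A) →* (A' ⟶ A')) 1 = _
        rw [map_one]
        rfl)
      map_add' := fun φ χ => EndAV.End.ext (by
        show F.map (φ.toHom * χ.toHom) = _
        rw [CategoryTheory.Functor.map_mul]
        rfl) }
  let α := ψ (EndAV.End.of πA)
  obtain ⟨P, hPm, hP⟩ := AVDegPoly.exists_int_degree_poly hg' α
  obtain ⟨-, hPd⟩ := AVDegPoly.monic_of_degree hg' α.toHom hP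
  obtain ⟨h, hhm, hh, -, hhroots⟩ := exists_weil_poly_frob πA hπ
  obtain ⟨l, hlp, hl⟩ := AVDegPoly.exists_prime_ne_zero Ω
  haveI : Fact l.Prime := ⟨hlp⟩
  obtain ⟨_, _⟩ := AVDegPoly.tateMod_props (A := A') hg' hl
  have hcp := AVDegPoly.charpoly_eq_of_norm hg' (tpt Ω)
    (fun f _ v hv => AVDegPoly.norm_deg_eq_norm_det hg' hl f v hv) α.toHom hP
  have hh' : h.eval₂ (Int.castRingHom (EndAV.End A')) (EndAV.End.of α.toHom) = 0 := by
    have h5 := congrArg ψ hh
    rw [map_zero, Polynomial.hom_eval₂] at h5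
    refine Eq.trans ?_ h5
    exact congrArg (fun g => Polynomial.eval₂ g α h) (RingHom.ext_int _ _)
  have hdvd := charpoly_dvd_pow (A := A') (tpt Ω) α.toHom hPm hcp hh'
  have hroots : ∀ ω : ℂ, (P.map (Int.castRingHom ℂ)).eval ω = 0 → ‖ω‖ = Real.sqrt (Nat.card k) := fun ω hω => by
    refine hhroots ω ?_
    have hd := (Polynomial.map_dvd (algebraMap ℚ ℂ) hdvd)
    rw [Polynomial.map_pow, Polynomial.map_map, Polynomial.map_map,
      show (algebraMap ℚ ℂ).comp (Int.castRingHom ℚ) = Int.castRingHom ℂ from RingHom.ext_int _ _] at hd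
    obtain ⟨c, hc⟩ := hd
    have := congrArg (Polynomial.eval ω) hc
    rw [Polynomial.eval_pow, Polynomial.eval_mul, hω, zero_mul] at this
    exact eq_zero_of_pow_eq_zero this
  refine ⟨P, hPm, hPd, hroots, fun K' _ _ _ => ?_⟩
  haveI : Module.Finite k K' := Module.Finite.of_finite
  set n := Module.finrank k K'
  have hn : 0 < n := Module.finrank_pos
  let πn := (EndAV.End.of πA ^ n).toHom
  have hπn : IsPowMap πn.left (Nat.card k ^ n) := isPowMap_pow πA hπ n
  let Φ : A' ⟶ A' := F.map πn
  have hαn : (α ^ n).toHom = Φ := by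
    show (ψ (EndAV.End.of πA) ^ n).toHom = _
    rw [← map_pow]
    rfl
  -- the degree of `α ^ n - 1`
  obtain ⟨v, hv, hvK⟩ := AVDegPoly.exists_isDeg_aeval hg' α P hP (K := ℂ) (Polynomial.X ^ n - 1)
    (Polynomial.monic_X_pow_sub_C (1 : ℤ) hn.ne')
  let hh1 : A' ⟶ A' := Φ * (𝟙 A')⁻¹
  have heq : (Polynomial.aeval α (Polynomial.X ^ n - 1 : ℤ[X])).toHom = hh1 := by
    rw [map_sub, map_pow, Polynomial.aeval_X, map_one, EndAV.End.toHom_sub, EndAV.End.toHom_one, hαn, div_eq_mul_inv]
  rw [heq] at hv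
  obtain ⟨p, e, hp, hcp', he, hq⟩ := exists_char_pow k
  haveI : Fact p.Prime := ⟨hp⟩
  haveI : CharP k p := hcp'
  haveI : CharP Ω p := charP_of_injective_algebraMap (algebraMap k Ω).injective p
  haveI : FrobSch.IsCharP A.left p := FrobSch.IsCharP.of_hom A.hom p
  have hQ : IsPowMap πn.left (p ^ (e * n)) := by rw [pow_mul, ← hq]; exact hπn
  have hcomm : Φ.left ≫ pullback.fst A.hom (ext k Ω) = pullback.fst A.hom (ext k Ω) ≫ πn.left :=
    (AVDegPoly.isPullback_map πn).w.symm
  haveI : Etale hh1.left := etale_mul_inv A' Φ fun t a hta => by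
    refine Over.OverMorphism.ext (pullback.hom_ext ?_ ?_)
    · rw [Over.comp_left, Over.comp_left, Category.assoc, Category.assoc, hcomm, ← Category.assoc, ← Category.assoc]
      refine comp_powMap_eq (K := Ω) p (Nat.mul_pos he hn) hQ _ _ ?_
      exact congrArg (fun m : _ ⟶ A' => m.left ≫ pullback.fst A.hom (ext k Ω)) hta |>.trans (by rfl)
    · exact (Over.w (t ≫ Φ)).trans (Over.w (a ≫ Φ)).symm
  haveI : IsProper hh1.left := by
    haveI : IsProper (hh1.left ≫ A'.hom) := by rw [Over.w]; infer_instance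
    exact IsProper.of_comp _ A'.hom
  haveI : IsFinite hh1.left := by
    haveI : LocallyQuasiFinite hh1.left := by
      rw [HasRingHomProperty.iff_appLE (P := @LocallyQuasiFinite)]
      intro U V e
      let φ := hh1.left.appLE U.1 V.1 e
      letI := φ.hom.toAlgebra
      have h : Algebra.Etale Γ(A'.left, U.1) Γ(A'.left, V.1) :=
        HasRingHomProperty.appLE (P := @Etale) _ inferInstance U V e
      show φ.hom.QuasiFinite
      rw [← RingHom.algebraMap_toAlgebra φ.hom, RingHom.quasiFinite_algebraMap]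
      infer_instance
    exact IsFinite.of_isProper_of_locallyQuasiFinite _
  -- the kernel
  have hcard : (Nat.card {Q : 𝟙_ (Over (Spec (CommRingCat.of Ω))) ⟶ A' // Q ≫ hh1 = 1} : ℚ) = v := by
    rw [AbTors.card_fibre hh1 1]
    exact hv.1 inferInstance _
  have hpts : Nat.card (Over.mk (Spec.map (CommRingCat.ofHom (algebraMap k K'))) ⟶ A) =
      Nat.card {Q : 𝟙_ (Over (Spec (CommRingCat.of Ω))) ⟶ A' // Q ≫ hh1 = 1} := by
    have e1 : (Over.mk (Spec.map (CommRingCat.ofHom (algebraMap k K'))) ⟶ A) ≃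
        {x : Spec (CommRingCat.of K') ⟶ A.left // x ≫ A.hom = Spec.map (CommRingCat.ofHom (algebraMap k K'))} :=
      { toFun := fun x => ⟨x.left, Over.w x⟩
        invFun := fun x => Over.homMk x.1 x.2
        left_inv := fun x => rfl
        right_inv := fun x => rfl }
    have e2 : {Q : 𝟙_ (Over (Spec (CommRingCat.of Ω))) ⟶ A' // Q ≫ hh1 = 1} ≃
        {x : Spec (CommRingCat.of Ω) ⟶ A'.left // x ≫ A'.hom = 𝟙 _ ∧ x ≫ Φ.left = x} :=
      { toFun := fun Q => ⟨Q.1.left, Over.w Q.1, by
          have h1 : Q.1 ≫ Φ * (Q.1 ≫ (𝟙 A')⁻¹) = 1 := by rw [← MonObj.comp_mul]; exact Q.2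
          rw [GrpObj.comp_inv, Category.comp_id, mul_inv_eq_one] at h1
          rw [← Over.comp_left, h1]⟩
        invFun := fun x => ⟨Over.homMk x.1 x.2.1, by
          show _ ≫ (Φ * (𝟙 A')⁻¹) = 1
          rw [MonObj.comp_mul, GrpObj.comp_inv, Category.comp_id, mul_inv_eq_one]
          exact Over.OverMorphism.ext x.2.2⟩
        left_inv := fun Q => rfl
        right_inv := fun x => rfl }
    rw [Nat.card_congr e1, Nat.card_congr e2]
    show SgaExt.pointCount A.hom K' = _
    rw [ZetaLib.pointCount_eq_nPts, ← ZetaLib.card_sigma_pointsOver A.hom (K := Ω) hn]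
    exact (Nat.card_congr (fixedEquiv A.hom hπn (IsPullback.of_hasPullback A.hom (ext k Ω)) hcomm (Over.w Φ))).symm
  rw [hpts, ← Rat.cast_natCast, hcard, hvK, AVDegPoly.prod_eval_swap (hPm.map _)
    ((show (Polynomial.X ^ n - 1 : ℤ[X]).Monic by rw [← Polynomial.C_1]; exact Polynomial.monic_X_pow_sub_C _ hn.ne').map _), hPm.natDegree_map, hPd, mul_assoc 2,
    pow_mul, neg_one_sq, one_pow, _root_.one_mul]
  refine congrArg Multiset.prod (Multiset.map_congr rfl fun a _ => ?_)
  simp [Polynomial.eval_map]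

end Groth.Agent.AVFrob
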