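import Groth.Agent.AVFrob.Main
import Groth.Agent.AVFrob.CommDim
import Groth.Agent.AVTors2.Simple

/-!
Consequences of the semisimplicity of Frobenius on Tate modules.
-/

noncomputable section

set_option linter.style.haveILetI false
set_option linter.unusedSectionVars false
set_option backward.isDefEq.respectTransparency false
set_option backward.isDefEq.respectTransparency.types false
set_option maxHeartbeats 1600000
set_option synthInstance.maxHeartbeats 400000
set_option autoImplicit false

universe u

open CategoryTheory CategoryTheory.Limits MonoidalCategory CartesianMonoidalCategory MonObj AlgebraicGeometry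
open scoped Polynomial TensorProduct

namespace Groth.Agent.AVFrob

variable {k : Type u} [Field k] {A : Over (Spec (CommRingCat.of k))} [GrpObj A] [IsCommMonObj A]

/-- An integral relation among endomorphisms holds on the rational Tate module. -/
theorem aeval_baseChange_eq_zero {l : ℕ} [Fact l.Prime] (T : Over (Spec (CommRingCat.of k)))
    (f : A ⟶ A) [IsMonHom f] {h : ℤ[X]}
    (hh : h.eval₂ (Int.castRingHom (EndAV.End A)) (EndAV.End.of f) = 0) :
    Polynomial.aeval ((AbDual.tateMapₗ (l := l) (T := T) f).baseChange ℚ_[l]) (h.map (Int.castRingHom ℚ_[l])) = 0 := by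
  let φ : EndAV.End A →+* Module.End ℚ_[l] (ℚ_[l] ⊗[ℤ_[l]] AbDual.TateMod A l T) :=
    (Module.End.baseChangeHom ℤ_[l] ℚ_[l] (AbDual.TateMod A l T)).toRingHom.comp (EndAV.End.tateRep (A := A) l T)
  have h5 := congrArg φ hh
  rw [map_zero, Polynomial.hom_eval₂] at h5
  rw [Polynomial.aeval_def, Polynomial.eval₂_map, ← h5]
  exact congrArg (fun g => Polynomial.eval₂ g (φ (EndAV.End.of f)) h) (RingHom.ext_int _ _)

variable [IsProper A.hom] [GeometricallyIntegral A.hom]

/-- On a simple abelian variety an endomorphism killed by a monic integral polynomial is killed by an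
irreducible one. -/
theorem exists_irreducible_annihilator
    (hsimple : ∀ (B : Over (Spec (CommRingCat.of k))) [GrpObj B] [GeometricallyIntegral B.hom] (i : B ⟶ A) [IsMonHom i]
      [IsClosedImmersion i.left], Subsingleton B.left ∨ IsIso i)
    (f : EndAV.End A) {h : ℤ[X]} (hm : h.Monic) (hh : h.eval₂ (Int.castRingHom (EndAV.End A)) f = 0) :
    ∃ h' : ℤ[X], h'.Monic ∧ h'.eval₂ (Int.castRingHom (EndAV.End A)) f = 0 ∧
      (h' = 1 ∨ Irreducible (h'.map (Int.castRingHom ℚ))) := by
  classical
  have hex : ∃ d, ∃ h' : ℤ[X], h'.Monic ∧ h'.eval₂ (Int.castRingHom (EndAV.End A)) f = 0 ∧ h'.natDegree = d :=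
    ⟨_, h, hm, hh, rfl⟩
  obtain ⟨h', hm', hh', hd'⟩ := Nat.find_spec hex
  refine ⟨h', hm', hh', ?_⟩
  by_cases h1 : h' = 1
  · exact Or.inl h1
  refine Or.inr ?_
  rw [← algebraMap_int_eq, ← Polynomial.Monic.irreducible_iff_irreducible_map_fraction_map hm',
    hm'.irreducible_iff_natDegree]
  refine ⟨h1, fun a b ha hb hab => ?_⟩
  let Φ := Polynomial.eval₂RingHom' (Int.castRingHom (EndAV.End A)) f fun z => (Int.cast_commute z f)
  have h2 : Φ a * Φ b = 0 := by rw [← map_mul, hab]; exact hh'
  by_contra hne
  push Not at hne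
  have hdeg : a.natDegree + b.natDegree = h'.natDegree := by rw [← hab, ha.natDegree_mul hb]
  have hzero : Φ a = 0 ∨ Φ b = 0 := by
    refine or_iff_not_imp_right.2 fun hb0 => ?_
    haveI := AVTors2.surjective_of_simple hsimple (Φ b).toHom fun e => hb0 (EndAV.End.ext e)
    exact AVTors2.eq_zero_of_mul_surjective (Φ b) (Φ a) h2
  rcases hzero with h0 | h0
  · exact Nat.find_min hex (show a.natDegree < Nat.find hex by omega) ⟨a, ha, h0, rfl⟩
  · exact Nat.find_min hex (show b.natDegree < Nat.find hex by omega) ⟨b, hb, h0, rfl⟩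

end Groth.Agent.AVFrob
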